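import Mathlib
import Cfsg.Agent.INV.ZP.Base
import Cfsg.Agent.INV.Dih
import Cfsg.Agent.FGS.SemiReg
import Cfsg.Agent.FGS.FiberCount
import Cfsg.Agent.INV.NCycB

/-!
The case of a non-abelian dihedral Sylow `2`-subgroup of `L` does not occur in a simple group.
-/

set_option autoImplicit false

namespace CL.ZP

open Subgroup Cfsg CL.MSS CL.Len CL.TwoInv CL.Z2
open scoped commutatorElement

variable {G : Type*} [Group G]

theorem exists_ext {D : Subgroup G} {y : G} (hy : y ∈ normalizer (D : Set G)) (h2 : y * y ∈ D) :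
    ∃ N : Subgroup G, ∀ w, w ∈ N ↔ w ∈ D ∨ y⁻¹ * w ∈ D :=
  ⟨{ carrier := {w | w ∈ D ∨ y⁻¹ * w ∈ D}
     one_mem' := Or.inl (one_mem D)
     mul_mem' := by
      rintro a b (ha | ha) (hb | hb)
      · exact Or.inl (mul_mem ha hb)
      · exact Or.inr (by simpa [mul_assoc] using mul_mem ((inv_mem hy a).1 ha) hb)
      · exact Or.inr (by simpa [mul_assoc] using mul_mem ha hb)
      · exact Or.inl (by simpa [mul_assoc] using mul_mem (mul_mem ((hy _).1 ha) h2) hb)
     inv_mem' := by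
      rintro a (ha | ha)
      · exact Or.inl (inv_mem ha)
      · exact Or.inr (by
          simpa [mul_assoc] using mul_mem ((inv_mem hy _).1 (inv_mem ha)) (inv_mem h2)) }, fun _ => Iff.rfl⟩

section

variable {D : Subgroup G} {n : ℕ} (c : Dih.Coord D n) (hn : 2 ≤ n)

theorem z_ord : orderOf (c.r (hh n)) = 2 := (c.orderOf_r_eq_two_iff _).2 rfl

theorem z_sq : c.r (hh n) * c.r (hh n) = 1 := mul_self_of_orderOf_eq_two (z_ord c)

theorem cen_s {j : ZMod (2 ^ n)} {w : G} (hw : w ∈ D) (e : c.s j * w = w * c.s j) :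
    w ∈ ({1, c.r (hh n), c.s j, c.s (j + hh n)} : Set G) := by
  rcases (c.mem_iff w).1 hw with ⟨i, rfl⟩ | ⟨i, rfl⟩
  · rcases (two_mul_eq_zero_iff c.hn i).1 ((c.r_comm_s_iff i j).1 e) with rfl | rfl
    exacts [Or.inl c.r_zero, Or.inr (Or.inl rfl)]
  · rcases (two_mul_eq_zero_iff c.hn _).1 ((c.s_comm_s_iff i j).1 e) with k | k
    · exact Or.inr (Or.inr (Or.inl (by rw [sub_eq_zero.1 k])))
    · exact Or.inr (Or.inr (Or.inr (by rw [← k, add_sub_cancel]; rfl)))

theorem inv_cases {w : G} (hw : w ∈ D) (e : orderOf w = 2) : w = c.r (hh n) ∨ ∃ j, w = c.s j :=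
  ((c.mem_iff w).1 hw).imp_left fun ⟨i, k⟩ => by rw [k, (c.orderOf_r_eq_two_iff i).1 (k ▸ e)]

include hn

theorem cenD {w : G} (hw : w ∈ D) (e : ∀ d ∈ D, d * w = w * d) : w = 1 ∨ w = c.r (hh n) := by
  rcases (c.mem_iff w).1 hw with ⟨i, rfl⟩ | ⟨i, rfl⟩
  · rcases (two_mul_eq_zero_iff c.hn i).1 ((c.r_comm_s_iff i 0).1 (e _ (c.s_mem 0))) with rfl | rfl
    exacts [Or.inl c.r_zero, Or.inr rfl]
  · have := (c.r_comm_s_iff (qq n) i).1 (e _ (c.r_mem _)).symm
    rw [two_qq hn] at this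
    exact absurd this (hh_ne_zero c.hn)

theorem z_comm : c.r (hh n) = ⁅c.r (qq n), c.s 0⁆ := by
  rw [commutatorElement_def, c.r_conj_s, c.s_inv, c.s_mul_s, two_qq hn, zero_add, sub_zero]

end

namespace LD

variable {t : G} {L D : Subgroup G} (h : LD t L D) {n : ℕ} (c : Dih.Coord D n) (hn : 2 ≤ n)
include h

theorem comm_E {a b : G} (ha : a ∈ zpowers t ⊔ D) (hb : b ∈ zpowers t ⊔ D) : ⁅a, b⁆ ∈ D := by
  have k : ∀ a ∈ zpowers t ⊔ D, ∃ d ∈ D, ∃ u, a = u * d ∧ ∀ e ∈ zpowers t ⊔ D, Commute u e :=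
    fun a ha => by
      rcases h.mem_E.1 ha with k | k
      · exact ⟨a, k, 1, (one_mul a).symm, fun _ _ => Commute.one_left _⟩
      · exact ⟨_, k, t, by rw [← mul_assoc, h.tt, one_mul], fun e he =>
          (mem_centralizer_singleton_iff.1 (h.E_le he)).symm⟩
  obtain ⟨d, d1, u, rfl, u1⟩ := k a ha
  obtain ⟨d', d2, u', rfl, u2⟩ := k b hb
  have e1 := (u2 _ ha).eq
  have e2 := (u1 _ (mem_sup_right (mul_mem (mul_mem d1 d2) (inv_mem d1)))).eq
  rw [commutatorElement_def, ← mul_assoc, ← e1, show u' * (u * d) * d' * (u * d)⁻¹ * (u' * d')⁻¹ =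
    u' * (u * (d * d' * d⁻¹) * u⁻¹ * d'⁻¹) * u'⁻¹ by group, e2, mul_inv_cancel_right,
    (u2 _ (mem_sup_right (mul_mem (mul_mem (mul_mem d1 d2) (inv_mem d1)) (inv_mem d2)))).eq,
    mul_inv_cancel_right]
  exact mul_mem (mul_mem (mul_mem d1 d2) (inv_mem d1)) (inv_mem d2)

theorem z_cen {e : G} (he : e ∈ zpowers t ⊔ D) : e * c.r (hh n) = c.r (hh n) * e := by
  rcases h.mem_E.1 he with k | k
  · exact c.r_h_comm k
  · have := c.r_h_comm k
    rwa [← mul_assoc, h.commD (c.r_mem _), mul_assoc, mul_assoc, mul_right_inj] at this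

include hn

theorem cen_E {w : G} (hw : w ∈ zpowers t ⊔ D) (e : ∀ d ∈ zpowers t ⊔ D, d * w = w * d) :
    w = 1 ∨ w = c.r (hh n) ∨ w = t ∨ w = t * c.r (hh n) := by
  rcases h.mem_E.1 hw with k | k
  · exact (cenD c hn k fun d hd => e d (mem_sup_right hd)).imp_right Or.inl
  · refine Or.inr (Or.inr ((cenD c hn k fun d hd => by
      rw [← mul_assoc, h.commD hd, mul_assoc, e d (mem_sup_right hd), mul_assoc]).imp (fun l => ?_)
      fun l => ?_))
    · rw [← mul_right_inj t, l, h.tt]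
    · rw [← l, ← mul_assoc, h.tt, one_mul]

theorem cen_conj {a w : G} (ha : a ∈ normalizer ((zpowers t ⊔ D : Subgroup G) : Set G))
    (hw : w ∈ zpowers t ⊔ D) (e : ∀ d ∈ zpowers t ⊔ D, d * w = w * d) :
    a * w * a⁻¹ = 1 ∨ a * w * a⁻¹ = c.r (hh n) ∨ a * w * a⁻¹ = t ∨ a * w * a⁻¹ = t * c.r (hh n) :=
  h.cen_E c hn ((ha w).1 hw) fun d hd => by
    rw [show d = a * (a⁻¹ * d * a⁻¹⁻¹) * a⁻¹ by group, conj_mul, conj_mul, e _ ((inv_mem ha d).1 hd)]

variable [Finite G]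
include c

theorem dih_central (hG : ∀ H : Subgroup G, H.index ≠ 2) : ¬ SylIn 2 (zpowers t ⊔ D) ⊤ := fun hS =>
  top_false hG hS le_sup_right (commutator_le.2 fun _ ha _ hb => h.comm_E ha hb) h.t_mem h.tt h.E_le
    (fun k => h.tL (h.syl.le k)) (fun _ hw _ => h.mem_E.1 hw) fun w hw e _ => by
      rcases cenD c hn hw fun d hd => mem_centralizer_singleton_iff.1 (e (mem_sup_right hd)) with
        rfl | rfl
      · exact one_mem _
      · rw [z_comm c hn]
        exact commutator_mem_commutator (mem_sup_right (c.r_mem _)) (mem_sup_right (c.s_mem _))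

theorem dih_nc (nc : ¬ SylIn 2 (zpowers t ⊔ D) ⊤) : NC t L D := by
  have nz : ¬ IsConj t (c.r (hh n)) := fun e => by
    obtain ⟨a, a1, a2⟩ := h.fuse e fun d hd => mem_centralizer_singleton_iff.2 (h.z_cen c hd)
    have := h.comm_E ((inv_mem a1 _).1 (mem_sup_right (c.r_mem (qq n))))
      ((inv_mem a1 _).1 (mem_sup_right (c.s_mem 0)))
    rw [← conjugate_commutatorElement, ← z_comm c hn, ← a2] at this
    exact h.tL (h.syl.le (by simpa [mul_assoc] using this))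
  refine h.nc_of (h.syl.le (c.r_mem _)) (z_ord c) nz ?_
  obtain ⟨P, -, -, p1, x, x1, x2⟩ := h.exists_norm nc
  rcases h.cen_conj c hn (p1 x1) h.t_mem fun d hd => mem_centralizer_singleton_iff.1 (h.E_le hd) with
    e | e | e | e
  · exact absurd e (conj_ne_one h.t1 x)
  · exact absurd (isConj_iff.2 ⟨x, e⟩) nz
  · exact absurd e x2
  · exact isConj_iff.2 ⟨x, e⟩

omit hn in
theorem card_le_four {P : Subgroup G} (hP : IsPGroup 2 P) (hL : P ≤ L) {a b : G} (ha : a ∈ P)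
    (hb : b ∈ P) (a2 : orderOf a = 2) (b2 : orderOf b = 2) (ab : a ≠ b) (ca : P ≤ centralizer {a})
    (cb : P ≤ centralizer {b}) : Nat.card P ≤ 4 := by
  obtain ⟨g, -, hg⟩ := h.syl.exists_conj_le hP hL
  have k : ∀ a, P ≤ centralizer {a} → ∀ j, g * a * g⁻¹ = c.s j → Nat.card P ≤ 4 := fun a ca j e => by
    rw [← card_cj g, show Nat.card (g •ᶜ P : Subgroup G) = ((g •ᶜ P : Subgroup G) : Set G).ncard from
      Nat.card_coe_set_eq _]
    refine (Set.ncard_le_ncard (t := {1, c.r (hh n), c.s j, c.s (j + hh n)}) fun w hw =>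
      cen_s c (hg hw) ?_).trans ((Set.ncard_insert_le _ _).trans (Nat.succ_le_succ
        ((Set.ncard_insert_le _ _).trans (Nat.succ_le_succ ((Set.ncard_insert_le _ _).trans
        (by simp))))))
    obtain ⟨u, hu, rfl⟩ := mem_cj'.1 hw
    rw [← e, conj_mul, conj_mul, mem_centralizer_singleton_iff.1 (ca hu)]
  rcases inv_cases c (hg (conj_mem_cj ha)) (by rw [orderOf_conj, a2]) with e | ⟨j, e⟩
  · rcases inv_cases c (hg (conj_mem_cj hb)) (by rw [orderOf_conj, b2]) with e' | ⟨j, e'⟩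
    · exact absurd (by simpa using e.trans e'.symm) ab
    · exact k b cb j e'
  · exact k a ca j e

theorem count_inv : {x | x ∈ L ∧ orderOf x = 2}.ncard % 4 = 1 := by
  have s := c.isSub_sub (2 ^ 2) 0
  set K := c.sub (2 ^ 2) 0
  have c8 := s.card hn
  have f : (2 : ZMod (2 ^ n)) ^ 2 = 4 := by norm_num
  have KD : K ≤ D := s.1
  have qK : c.r (qq n) ∈ K := (s.2.1 _).2 (by
    rw [f]; exact (four_mul_eq_zero_iff hn _).2 (by simp))
  have qz : c.r (qq n) * c.r (qq n) = c.r (hh n) := by rw [c.r_mul_r, ← two_mul, two_qq hn]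
  have d := CL.Cnt.dvd_ncard_of_conj_elem K (S := {x | x ∈ L ∧ orderOf x = 2} \ K) (q := 4)
    (fun g hg x hx => ⟨⟨mul_mem (mul_mem (h.syl.le (KD hg)) hx.1.1) (inv_mem (h.syl.le (KD hg))),
      by rw [orderOf_conj, hx.1.2]⟩, fun k => hx.2 ((le_normalizer hg x).2 k)⟩) fun x hx => by
    by_contra k
    have i1 := relIndex_dvd_card (centralizer {x}) K
    rw [c8] at i1
    obtain ⟨m, m1, m2⟩ := (Nat.dvd_prime_pow Nat.prime_two).1 i1
    have m3 : m ≤ 1 := by
      by_contra m3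
      exact k (m2 ▸ pow_dvd_pow 2 (show 2 ≤ m by omega))
    have zx : c.r (hh n) ∈ centralizer {x} := by
      rw [← qz]
      interval_cases m
      · exact mul_mem (relIndex_eq_one.1 m2 qK) (relIndex_eq_one.1 m2 qK)
      · exact mul_self_mem_of_index_two m2 ⟨_, qK⟩
    have i2 := ((centralizer {x}).subgroupOf K).index_mul_card
    rw [← relIndex, m2, c8, ← inf_subgroupOf_right,
      Nat.card_congr (subgroupOfEquivOfLe inf_le_right).toEquiv] at i2
    have x2 := mul_self_of_orderOf_eq_two hx.1.2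
    have i3 := h.card_le_four c (P := zpowers x ⊔ centralizer {x} ⊓ K)
      ((pgroup_two x2).to_sup_of_normal_left' (c.isPGroup.to_le (inf_le_right.trans KD))
        (inf_le_left.trans fun g hg => centralizer_le_normalizer _ fun w hw => by
          obtain ⟨k, rfl⟩ := hw
          exact ((show Commute g x from mem_centralizer_singleton_iff.1 hg).zpow_right k).symm))
      (sup_le (zpowers_le_of_mem hx.1.1) (inf_le_right.trans (KD.trans h.syl.le)))
      (mem_sup_left (mem_zpowers x)) (mem_sup_right ⟨zx, qz ▸ mul_mem qK qK⟩) hx.1.2 (z_ord c)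
      (fun e => hx.2 (e ▸ qz ▸ mul_mem qK qK))
      (sup_le (zpowers_le_of_mem (mem_centralizer_singleton_iff.2 rfl)) inf_le_left)
      (sup_le (zpowers_le_of_mem (mem_centralizer_singleton_iff.2
        (mem_centralizer_singleton_iff.1 zx).symm)) fun w hw =>
        mem_centralizer_singleton_iff.2 (c.r_h_comm (KD hw.2)))
    have i4 : 4 ≤ Nat.card ↥(centralizer {x} ⊓ K) := by interval_cases m <;> omega
    exact hx.2 ((eq_of_le_of_card_ge le_sup_right (i3.trans i4)).ge (mem_sup_left (mem_zpowers x))).2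
  have e : {x | x ∈ L ∧ orderOf x = 2} ∩ K =
      {c.r (hh n), c.s 0, c.s (hh n), c.s (qq n), c.s (-qq n)} := by
    ext w
    constructor
    · rintro ⟨⟨-, w2⟩, hw⟩
      rcases (c.mem_iff w).1 (KD hw) with ⟨i, rfl⟩ | ⟨i, rfl⟩
      · exact Or.inl (by rw [(c.orderOf_r_eq_two_iff i).1 w2])
      · have hi := (s.2.2 i).1 hw
        rw [f, sub_zero, four_mul_eq_zero_iff hn] at hi
        rcases hi with rfl | rfl | rfl | rfl <;> simp
    · have : ∀ i, 4 * i = 0 → c.s i ∈ {x | x ∈ L ∧ orderOf x = 2} ∩ K := fun i hi =>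
        ⟨⟨h.syl.le (c.s_mem i), c.orderOf_s i⟩, (s.2.2 _).2 (by rwa [f, sub_zero])⟩
      rintro (rfl | rfl | rfl | rfl | rfl)
      · exact ⟨⟨h.syl.le (c.r_mem _), z_ord c⟩, qz ▸ mul_mem qK qK⟩
      all_goals exact this _ ((four_mul_eq_zero_iff hn _).2 (by simp))
  have h0 := hh_ne_zero c.hn
  have q2 := two_qq hn
  have h2 := two_hh c.hn
  have q0 : qq n ≠ 0 := fun k => h0 (by rw [← q2, k, mul_zero])
  have qh : qq n ≠ hh n := fun k => h0 (by rw [← q2, k, h2])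
  have qh' : hh n ≠ -qq n := fun k => h0 (by rw [← q2, ← neg_neg (qq n), ← k, mul_neg, h2, neg_zero])
  have qq' : qq n ≠ -qq n := fun k => h0 (by rw [← q2, two_mul]; nth_rewrite 1 [k]; simp)
  have := Set.ncard_inter_add_ncard_sdiff_eq_ncard {x | x ∈ L ∧ orderOf x = 2} K
  rw [e, Set.ncard_insert_of_notMem (by simp [c.r_ne_s]),
    Set.ncard_insert_of_notMem (by simp [c.s_eq_iff, h0.symm, q0.symm, q0]),
    Set.ncard_insert_of_notMem (by simp [c.s_eq_iff, qh.symm, qh']),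
    Set.ncard_insert_of_notMem (by simp [c.s_eq_iff, qq']), Set.ncard_singleton] at this
  omega

end LD

namespace NC

variable {t : G} {L D : Subgroup G} (h : NC t L D) {n : ℕ} (c : Dih.Coord D n) (hn : 2 ≤ n)
include h

theorem mem_D {w : G} (hw : w ∈ zpowers t ⊔ D) (w2 : w * w = 1) (e : ¬ IsConj t w) : w ∈ D :=
  (h.mem_E.1 hw).resolve_right fun k => e (by
    have := h.tz _ (h.syl.le k) (by
      rw [mul_assoc, ← mul_assoc w, mem_centralizer_singleton_iff.1 (h.E_le hw), mul_assoc, w2, mul_one,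
        h.toLD.tt])
    rwa [← mul_assoc, h.toLD.tt, one_mul] at this)

include c

theorem fin3 {a b : G} (ha : IsConj t a) (hb : IsConj t b) {i : ZMod (2 ^ n)} (e : a * b = t * c.r i)
    (e1 : a * c.r i = c.r i * a) (e2 : c.s 0 * a = a * c.s 0)
    (e3 : t * c.s 0 * b = b * (t * c.s 0)) : False := by
  have l := h.syl.le (mul_mem (c.r_mem i) (c.s_mem 0))
  refine h.r1 hb (h.tz _ (h.syl.le (c.s_mem 0)) (c.s_sq 0)) e3 ?_
  have := h.r2 ha (h.nz _ l) (by rw [c.r_mul_s, c.s_sq]) (by rw [mul_assoc, e2, ← mul_assoc, ← e1, mul_assoc])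
  rwa [← mul_assoc, show a * c.r i = b * t by
    rw [eq_inv_mul_iff_mul_eq.2 e, inv_eq_of_mul_eq_one_right (IsConj.sq_one ha h.toLD.tt), mul_assoc,
      mul_assoc, h.commD (c.r_mem i), ← mul_assoc t, h.toLD.tt, one_mul], mul_assoc] at this

theorem fin2 {S : Subgroup G} (hE : zpowers t ⊔ D ≤ S) {a b : G} (ha : IsConj t a) (hb : IsConj t b)
    (a1 : a ∈ S) (b1 : b ∈ S) (a2 : t * a * t⁻¹ ≠ a) (b2 : t * b * t⁻¹ ≠ b)
    (a3 : ∀ g ∈ S, g * a * g⁻¹ = a ∨ g * a * g⁻¹ = a * c.r (hh n))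
    (b3 : ∀ g ∈ S, g * b * g⁻¹ = b ∨ g * b * g⁻¹ = b * c.r (hh n))
    (hz : ∀ g ∈ S, g * c.r (hh n) = c.r (hh n) * g) (hd : t * (a * b) ∈ D) : False := by
  have tt := h.toLD.tt
  have aa := IsConj.sq_one ha tt
  have bb := IsConj.sq_one hb tt
  have zz := z_sq c
  have tS := hE h.t_mem
  have sS := hE (mem_sup_right (c.s_mem 0))
  have ts := h.commD (c.s_mem 0)
  have wt : a * b * t = t * (a * b) := by
    have := h.commD hd
    rwa [mul_assoc, mul_right_inj] at this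
  have sq : t * (a * b) * (t * (a * b)) = a * b * (a * b) := by
    rw [mul_assoc, ← mul_assoc (a * b), wt, mul_assoc, ← mul_assoc, tt, one_mul]
  have ab : a * b * a⁻¹ = b * c.r (hh n) := (b3 a a1).resolve_left fun k => by
    have k := mul_inv_eq_iff_eq_mul.1 k
    have := h.tz _ (h.syl.le hd) (by rw [sq, mul_assoc, ← mul_assoc b, ← k, mul_assoc, bb, mul_one, aa])
    rw [← mul_assoc, tt, one_mul] at this
    exact h.r1 ha hb k.symm this
  have ai := inv_eq_of_mul_eq_one_right aa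
  have bi := inv_eq_of_mul_eq_one_right bb
  rw [← mul_assoc (a * b), ← ai, ai, show a * b * a = a * b * a⁻¹ by rw [ai], ab, hz b b1,
    mul_assoc (c.r _), bb, mul_one] at sq
  have ta := (a3 t tS).resolve_left a2
  have tb := (b3 t tS).resolve_left b2
  have k : ∀ u ∈ S, t * u * t⁻¹ = u * c.r (hh n) → c.s 0 * u * (c.s 0)⁻¹ = u * c.r (hh n) →
      t * c.s 0 * u = u * (t * c.s 0) := fun u u1 u2 u3 => by
    rw [← mul_inv_eq_iff_eq_mul, show t * c.s 0 * u * (t * c.s 0)⁻¹ =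
      t * (c.s 0 * u * (c.s 0)⁻¹) * t⁻¹ by group, u3, ← conj_mul, u2, hz t tS, mul_inv_cancel_right,
      mul_assoc, zz, mul_one]
  rcases (c.mem_iff _).1 hd with ⟨i, e⟩ | ⟨i, e⟩ <;> rw [e] at sq
  swap
  · exact hh_ne_zero c.hn (c.r_eq_one_iff.1 (sq.symm.trans (c.s_sq i)))
  rw [c.r_mul_r, c.r_eq_iff] at sq
  have e0 : a * b = t * c.r i := by rw [← e, ← mul_assoc, tt, one_mul]
  have e1 : a * c.r i = c.r i * a := by
    have : a * t * a⁻¹ = t * c.r (hh n) := by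
      rw [ai, mul_assoc, mul_inv_eq_iff_eq_mul.1 ta, ← mul_assoc, ← mul_assoc, aa, one_mul, hz t tS]
    rw [← mul_inv_eq_iff_eq_mul, ← e, ← conj_mul, ← conj_mul, this, ab, mul_inv_cancel_right,
      ← mul_assoc a, hz _ (mul_mem a1 b1), mul_assoc, ← mul_assoc (c.r _), zz, one_mul]
  have e2 : b * a = t * c.r (-i) := by
    rw [← c.r_inv, ← ai, ← bi, ← mul_inv_rev, e0, ← h.commD (c.r_mem i), mul_inv_rev,
      inv_eq_of_mul_eq_one_right tt]
  have e3 : b * c.r (-i) = c.r (-i) * b := by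
    rw [eq_inv_mul_iff_mul_eq.2 e0, ← c.r_inv]
    exact ((Commute.inv_left e1).mul_left (Commute.mul_left (h.commD (c.r_mem i)).symm
      (Commute.refl _))).inv_right
  have e4 : c.s 0 * a * (c.s 0)⁻¹ * (c.s 0 * b * (c.s 0)⁻¹) ≠ a * b := by
    rw [conj_mul, e0, ← conj_mul, c.s_conj_r, ts, mul_inv_cancel_right, Ne, mul_right_inj, c.r_eq_iff]
    exact fun l => hh_ne_zero c.hn (by rw [← sq]; nth_rewrite 1 [← l]; exact neg_add_cancel i)
  rcases a3 _ sS with u | u <;> rcases b3 _ sS with v | v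
  · exact e4 (by rw [u, v])
  · exact h.fin3 c ha hb e0 e1 (mul_inv_eq_iff_eq_mul.1 u) (k b b1 tb v)
  · exact h.fin3 c hb ha e2 e3 (mul_inv_eq_iff_eq_mul.1 v) (k a a1 ta u)
  · exact e4 (by rw [u, v, hz b b1, mul_assoc, ← mul_assoc (c.r _), zz, one_mul])

variable [Finite G]
include hn

theorem idx [IsSimpleGroup G] (hG : ¬ IsMulCommutative G) : (centralizer {t}).index % 4 = 2 := by
  let _ : MulAction G {y // IsConj t y} :=
    { smul := fun g y => ⟨g * y * g⁻¹, (isConj_cj g).2 y.2⟩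
      one_smul := fun y => Subtype.ext (by change 1 * y.1 * 1⁻¹ = y.1; simp)
      mul_smul := fun a b y => Subtype.ext (by
        change a * b * y.1 * (a * b)⁻¹ = a * (b * y.1 * b⁻¹) * a⁻¹; group) }
  have d := CL.SR.four_dvd_ncard_moved (X := {y // IsConj t y}) hG h.ord
  have e := CL.SR.ncard_fixed_add_ncard_moved (X := {y // IsConj t y}) t
  have e1 : Nat.card {y // IsConj t y} = (centralizer {t}).index := by
    rw [← relIndex_top_right, relIndex_c1, ← Nat.card_coe_set_eq]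
    exact Nat.card_congr (Equiv.subtypeEquivRight fun y => by simp [isConj_iff])
  have tt := h.toLD.tt
  have e2 : {x : {y // IsConj t y} | t • x = x}.ncard =
      (insert 1 {x | x ∈ L ∧ orderOf x = 2} : Set G).ncard := by
    refine Set.ncard_congr (fun x _ => t * x.1) (fun x hx => ?_)
      (fun a b _ _ e => Subtype.ext (mul_left_cancel e)) fun y hy => ?_
    · have k : x.1 * t = t * x.1 := (mul_inv_eq_iff_eq_mul.1 (congrArg Subtype.val hx)).symm
      have x2 := IsConj.sq_one x.2 tt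
      refine or_iff_not_imp_left.2 fun x1 => ⟨(h.two _ (pgroup_two x2) k).resolve_left
        fun l => h.nz _ l x.2, orderOf_eq_two_of ?_ x1⟩
      rw [mul_assoc, ← mul_assoc x.1, k, mul_assoc, x2, mul_one, tt]
    · have k : y ∈ L ∧ y * y = 1 := by
        rcases hy with rfl | hy
        exacts [⟨one_mem _, mul_one _⟩, ⟨hy.1, mul_self_of_orderOf_eq_two hy.2⟩]
      refine ⟨⟨t * y, h.tz y k.1 k.2⟩, Subtype.ext ?_, by rw [← mul_assoc, tt, one_mul]⟩
      change t * (t * y) * t⁻¹ = t * y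
      rw [← h.comm k.1, ← mul_assoc, mul_inv_cancel_right, h.comm k.1]
  rw [Set.ncard_insert_of_notMem (by simp)] at e2
  have := h.toLD.count_inv c hn
  omega

variable [IsSimpleGroup G] (hG : ¬ IsMulCommutative G) {S : Subgroup G} (hS : SylIn 2 S ⊤)
  (hE : zpowers t ⊔ D ≤ S)
include hG hS hE

theorem rel_two : (zpowers t ⊔ D).relIndex S = 2 := by
  have i := h.idx c hn hG
  have e := (relIndex_mul_index hE).trans (relIndex_mul_index h.E_le).symm
  have o1 := h.sylE.not_dvd_relIndex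
  have o2 := hS.not_dvd_relIndex
  rw [relIndex_top_right] at o2
  obtain ⟨m, hm⟩ := hS.pgroup.index ((zpowers t ⊔ D).subgroupOf S)
  rw [← relIndex] at hm
  rw [hm] at e ⊢
  rcases m with _ | _ | m
  · exact absurd (by rw [pow_zero, one_mul] at e; rw [e]; exact Dvd.dvd.mul_left (by omega) _) o2
  · rfl
  · have : 2 ^ 2 ∣ (centralizer {t}).index := Nat.Coprime.dvd_of_dvd_mul_left
      (((Nat.Prime.coprime_iff_not_dvd Nat.prime_two).2 o1).pow_left 2)
      (e ▸ Dvd.dvd.mul_right (pow_dvd_pow 2 (by omega)) _)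
    omega

theorem S_norm {a : G} (ha : a ∈ S) : a ∈ normalizer ((zpowers t ⊔ D : Subgroup G) : Set G) :=
  (normal_subgroupOf_iff_le_normalizer hE).1 (normal_of_index_eq_two (h.rel_two c hn hG hS hE)) ha

theorem S_t {a : G} (ha : a ∈ S) : a * t * a⁻¹ = t ∨ a * t * a⁻¹ = t * c.r (hh n) := by
  rcases h.cen_conj c hn (h.S_norm c hn hG hS hE ha) h.t_mem
    fun d hd => mem_centralizer_singleton_iff.1 (h.E_le hd) with e | e | e
  · exact absurd e (conj_ne_one h.t1 a)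
  · exact absurd (isConj_iff.2 ⟨a, e⟩) (h.nz _ (h.syl.le (c.r_mem _)))
  · exact e

theorem S_z {a : G} (ha : a ∈ S) : a * c.r (hh n) = c.r (hh n) * a := by
  have k := mt (isConj_cj a).1 (h.nz _ (h.syl.le (c.r_mem (hh n))))
  rcases h.cen_conj c hn (h.S_norm c hn hG hS hE ha) (mem_sup_right (c.r_mem _))
    fun d hd => h.z_cen c hd with e | e | e | e
  · exact absurd e (conj_ne_one (ne_one_of_orderOf_eq_two (z_ord c)) a)
  · exact mul_inv_eq_iff_eq_mul.1 e
  · exact absurd (e ▸ IsConj.refl t) k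
  · exact absurd (e ▸ h.tz _ (h.syl.le (c.r_mem _)) (z_sq c)) k

theorem S_D {a d : G} (ha : a ∈ S) (hd : d ∈ D) : a * d * a⁻¹ ∈ D := by
  have k : ∀ i, a * c.s i * a⁻¹ ∈ D := fun i => h.mem_D
    ((h.S_norm c hn hG hS hE ha _).1 (mem_sup_right (c.s_mem i))) (conj_sq (c.s_sq i) a)
    (mt (isConj_cj a).1 (h.nz _ (h.syl.le (c.s_mem i))))
  rcases (c.mem_iff d).1 hd with ⟨i, rfl⟩ | ⟨i, rfl⟩
  · have := mul_mem (k i) (k 0)
    rwa [conj_mul, c.s_mul_s, sub_zero] at this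
  · exact k i

theorem S_comm : ∀ a ∈ S, ∀ b ∈ S, a * b * a⁻¹ * b⁻¹ ∈ D := by
  have k : ∀ a ∈ S, ∀ b ∈ zpowers t ⊔ D, a * b * a⁻¹ * b⁻¹ ∈ D := fun a ha b hb => by
    rcases h.mem_E.1 hb with k | k
    · exact mul_mem (h.S_D c hn hG hS hE ha k) (inv_mem k)
    have l := mul_mem (h.S_D c hn hG hS hE ha k) (inv_mem k)
    rw [← conj_mul] at l
    rcases h.S_t c hn hG hS hE ha with e | e <;> rw [e] at l
    · simpa [mul_assoc] using (inv_mem h.tN _).1 l
    · simpa [mul_assoc] using mul_mem (inv_mem (c.r_mem (hh n))) ((inv_mem h.tN _).1 l)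
  intro a ha b hb
  by_cases hb' : b ∈ zpowers t ⊔ D
  · exact k a ha b hb'
  by_cases ha' : a ∈ zpowers t ⊔ D
  · simpa [mul_assoc] using inv_mem (k b hb a ha')
  have := (mul_mem_iff_of_index_two (h.rel_two c hn hG hS hE) (a := ⟨a⁻¹, inv_mem ha⟩)
    (b := ⟨b, hb⟩)).2 (by simp [mem_subgroupOf, ha', hb'])
  simpa [mul_assoc] using h.S_D c hn hG hS hE ha (k a ha _ this)

theorem step {y : G} (hy : y ∈ S) (y1 : y ∉ zpowers t ⊔ D) (y2 : y * y ∈ D) :
    ∃ a, IsConj t a ∧ a ∈ S ∧ y⁻¹ * a ∈ D ∧ t * a * t⁻¹ ≠ a ∧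
      ∀ g ∈ S, g * a * g⁻¹ = a ∨ g * a * g⁻¹ = a * c.r (hh n) := by
  obtain ⟨N, hN⟩ := exists_ext (mem_normalizer_fintype fun d hd => h.S_D c hn hG hS hE hy hd) y2
  have tt := h.toLD.tt
  obtain ⟨g, g1, g2⟩ := tr (CL.NCyc.index_ne_two hG) hS (N := N)
    (fun a ha b hb => (hN _).2 (Or.inl (h.S_comm c hn hG hS hE a ha b hb))) (hE h.t_mem)
    (fun k => ((hN _).1 k).elim (fun k => h.tL (h.syl.le k)) fun k => y1 (by
      simpa using mul_mem h.t_mem (inv_mem (mem_sup_right k : _ ∈ zpowers t ⊔ D)))) tt fun g hg => by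
      by_cases e : g * t * g⁻¹ ∈ zpowers t ⊔ D
      · exact (h.mem_E.1 e).imp (fun k => (hN _).2 (Or.inl k)) fun k => (hN _).2 (Or.inl k)
      have := (mul_mem_iff_of_index_two (h.rel_two c hn hG hS hE) (a := ⟨y⁻¹, inv_mem hy⟩)
        (b := ⟨_, hg⟩)).2 (by simp [mem_subgroupOf, y1, e])
      refine (h.mem_E.1 this).imp (fun k => (hN _).2 (Or.inr k)) fun k => (hN _).2 (Or.inr ?_)
      simpa [mul_assoc] using mul_mem (h.S_comm c hn hG hS hE _ (inv_mem hy) _ (hE h.t_mem)) k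
  have ct : IsConj t (g * t * g⁻¹) := isConj_iff.2 ⟨g, rfl⟩
  have d := ((hN _).1 g1).resolve_left fun k => h.nz _ (h.syl.le k) ct
  have aS : g * t * g⁻¹ ∈ S := g2 t (hE h.t_mem) rfl
  have hS' : SylIn 2 (g⁻¹ •ᶜ S) ⊤ := hS.cj_of_mem (mem_top _)
  have hE' : zpowers t ⊔ D ≤ g⁻¹ •ᶜ S := fun e he => mem_cj'.2
    ⟨_, g2 e (hE he) (mem_centralizer_singleton_iff.1 (h.E_le he)), by group⟩
  have k : ∀ e ∈ D, g * e * g⁻¹ ∈ S := fun e he => g2 e (hE (mem_sup_right he)) (h.commD he)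
  have z : g * c.r (hh n) * g⁻¹ = c.r (hh n) := by
    refine (cenD c hn ?_ fun d hd => ?_).resolve_left (conj_ne_one (ne_one_of_orderOf_eq_two (z_ord c)) g)
    · rw [z_comm c hn, conjugate_commutatorElement]
      exact h.S_comm c hn hG hS hE _ (k _ (c.r_mem _)) _ (k _ (c.s_mem _))
    · rw [show d = g * (g⁻¹ * d * g⁻¹⁻¹) * g⁻¹ by group, conj_mul, conj_mul,
        h.S_z c hn hG hS' hE' (conj_mem_cj (hE (mem_sup_right hd)))]
  refine ⟨_, ct, aS, d, fun e => y1 ?_, fun a ha => ?_⟩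
  · simpa [mul_assoc] using mul_mem (h.cap hS.pgroup hE aS (mul_inv_eq_iff_eq_mul.1 e).symm)
      (inv_mem (mem_sup_right d : _ ∈ zpowers t ⊔ D))
  · rw [← z, conj_mul, show a = g * (g⁻¹ * a * g⁻¹⁻¹) * g⁻¹ by group, conj_inv, conj_mul, conj_mul]
    exact (h.S_t c hn hG hS' hE' (conj_mem_cj ha)).imp (by rintro e; rw [e]) (by rintro e; rw [e])

theorem dih_false : False := by
  have tt := h.toLD.tt
  by_cases e : ∀ g : G, g * t * g⁻¹ ∈ S → g * t * g⁻¹ ∈ zpowers t ⊔ D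
  · obtain ⟨g, g1, -⟩ := tr (CL.NCyc.index_ne_two hG) hS (h.S_comm c hn hG hS hE) (hE h.t_mem)
      (fun k => h.tL (h.syl.le k)) tt fun g hg => h.mem_E.1 (e g hg)
    exact h.nz _ (h.syl.le g1) (isConj_iff.2 ⟨g, rfl⟩)
  push Not at e
  obtain ⟨g, x1, x2⟩ := e
  have xx := conj_sq tt g
  generalize g * t * g⁻¹ = x at x1 x2 xx
  have xt := (h.S_t c hn hG hS hE x1).resolve_left fun k =>
    x2 (h.cap hS.pgroup hE x1 (mul_inv_eq_iff_eq_mul.1 k))
  have xi := inv_eq_of_mul_eq_one_right xx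
  obtain ⟨a, a0, a1, a2, a3, a4⟩ := h.step c hn hG hS hE x1 x2 (xx ▸ one_mem D)
  obtain ⟨b, b0, b1, b2, b3, b4⟩ := h.step c hn hG hS hE (mul_mem x1 (hE h.t_mem))
    (fun k => x2 (by simpa using mul_mem k (inv_mem h.t_mem))) (by
      rw [← mul_assoc, ← xi, xi, show x * t * x = x * t * x⁻¹ by rw [xi], xt]
      exact (h.tN _).1 (c.r_mem _) |> fun k => by rwa [inv_eq_of_mul_eq_one_right tt] at k)
  refine h.fin2 c hE a0 b0 a1 b1 a3 b3 a4 b4 (fun g hg => h.S_z c hn hG hS hE hg) ?_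
  have := mul_mem (h.S_D c hn hG hS hE (mul_mem (hE h.t_mem) x1) a2) b2
  rwa [show t * x * (x⁻¹ * a) * (t * x)⁻¹ * ((x * t)⁻¹ * b) = t * (a * ((x * (t * t) * x)⁻¹ * b)) by
    group, tt, mul_one, xx, inv_one, one_mul] at this

end NC

theorem LD.dih_false [Finite G] [IsSimpleGroup G] (hG : ¬ IsMulCommutative G) {t : G}
    {L D : Subgroup G} (h : LD t L D) {n : ℕ} (c : Dih.Coord D n) (hn : 2 ≤ n) : False := by
  obtain ⟨S, hS, hE⟩ := exists_sylIn_ge h.E_pgroup le_top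
  exact (h.dih_nc c hn (h.dih_central c hn (CL.NCyc.index_ne_two hG))).dih_false c hn hG hS hE

end CL.ZP
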