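import Mathlib
import Cfsg.Agent.INV.ZP.Base

/-!
The case of an elementary abelian Sylow `2`-subgroup `U` of `L`: subgroups inverted by `t`.
-/

set_option autoImplicit false

namespace CL.ZP

open Subgroup Cfsg CL.MSS CL.Len CL.TwoInv

variable {G : Type*} [Group G]

theorem comm_of_sq {U : Subgroup G} (sq : ∀ u ∈ U, u * u = 1) {a b : G} (ha : a ∈ U) (hb : b ∈ U) :
    a * b = b * a := by
  rw [← inv_eq_of_mul_eq_one_right (sq _ (mul_mem ha hb)), mul_inv_rev,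
    inv_eq_of_mul_eq_one_right (sq a ha), inv_eq_of_mul_eq_one_right (sq b hb)]

theorem exists_third {U : Subgroup G} [Finite G] (h : 4 ≤ Nat.card U) (a b : G) :
    ∃ u ∈ U, u ≠ 1 ∧ u ≠ a ∧ u ≠ b := by
  by_contra c
  push Not at c
  have := Set.ncard_le_ncard (s := (U : Set G)) (t := {1, a, b}) fun u hu => by
    by_contra e
    simp only [Set.mem_insert_iff, Set.mem_singleton_iff, not_or] at e
    exact e.2.2 (c u hu e.1 e.2.1)
  have := Set.ncard_insert_le 1 {a, b}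
  have := Set.ncard_insert_le a {b}
  rw [Set.ncard_singleton] at this
  rw [show Nat.card U = (U : Set G).ncard from Nat.card_coe_set_eq _] at h
  omega

theorem orb_syl [Finite G] {R H : Subgroup G} (hR : SylIn 2 R H) {t : G} {k : ℕ}
    (c : {y | ∃ g ∈ H, g * t * g⁻¹ = y}.ncard = 2 ^ k) :
    {y | ∃ g ∈ R, g * t * g⁻¹ = y} = {y | ∃ g ∈ H, g * t * g⁻¹ = y} := by
  refine Set.eq_of_subset_of_ncard_le (fun _ ⟨g, hg, e⟩ => ⟨g, hR.le hg, e⟩) ?_
  rw [← relIndex_c1] at c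
  rw [← relIndex_c1, ← relIndex_c1]
  refine Nat.le_of_dvd (Nat.pos_of_ne_zero index_ne_zero_of_finite)
    (Nat.Coprime.dvd_of_dvd_mul_right (c ▸ ((Nat.Prime.coprime_iff_not_dvd Nat.prime_two).2
      hR.not_dvd_relIndex).pow_left k) ?_)
  rw [← inf_relIndex_right _ R, relIndex_mul_relIndex _ _ _ inf_le_right hR.le]
  exact relIndex_dvd_of_le_left _ inf_le_left

theorem card_eq_orb [Finite G] (R : Subgroup G) (t : G) : Nat.card R =
    {y | ∃ g ∈ R, g * t * g⁻¹ = y}.ncard * Nat.card ↥(centralizer {t} ⊓ R) := by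
  rw [← relIndex_c1, ← ((centralizer {t}).subgroupOf R).index_mul_card, relIndex, ← inf_subgroupOf_right,
    Nat.card_congr (subgroupOfEquivOfLe inf_le_right).toEquiv]

theorem ncard_coset (A : Subgroup G) (s : G) : {y | s⁻¹ * y ∈ A}.ncard = Nat.card A := by
  rw [show Nat.card A = (A : Set G).ncard from Nat.card_coe_set_eq _]
  exact Set.ncard_congr (fun y _ => s⁻¹ * y) (fun _ h => h) (fun _ _ _ _ e => mul_left_cancel e)
    fun a ha => ⟨s * a, by simpa using ha, by simp⟩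

namespace LD

variable {t : G} {L U : Subgroup G} (h : LD t L U) (sq : ∀ u ∈ U, u * u = 1)
include h sq

theorem sq_E {e : G} (he : e ∈ zpowers t ⊔ U) : e * e = 1 := by
  rcases h.mem_E.1 he with k | k
  · exact sq e k
  · have := sq _ k
    rwa [mul_assoc, ← mul_assoc e, mem_centralizer_singleton_iff.1 (h.E_le he), mul_assoc, ← mul_assoc,
      h.tt, one_mul] at this

variable [Finite G]

theorem burn {a b : G} (ha : a ∈ U) (hb : b ∈ U) (a1 : a ≠ 1) (b1 : b ≠ 1) :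
    ∃ l ∈ L ⊓ normalizer (U : Set G), l * a * l⁻¹ = b := by
  obtain ⟨l, hl, e⟩ := h.conj a (h.syl.le ha) b (h.syl.le hb) (orderOf_eq_two_of (sq a ha) a1)
    (orderOf_eq_two_of (sq b hb) b1)
  obtain ⟨x, hx, k⟩ := ((h.syl.cj_of_mem hl).of_le (K := L ⊓ centralizer {b}) (le_inf
    (cj_le_of_mem h.syl.le hl) (by
      rintro _ ⟨u, hu, rfl⟩
      rw [← e]
      exact mem_centralizer_singleton_iff.2 (by
        change l * u * l⁻¹ * _ = _ * (l * u * l⁻¹)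
        rw [conj_mul, conj_mul, comm_of_sq sq hu ha]))) inf_le_left).exists_conj
    (h.syl.of_le (le_inf h.syl.le fun u hu => mem_centralizer_singleton_iff.2 (comm_of_sq sq hu hb))
      inf_le_left)
  refine ⟨x * l, ⟨mul_mem hx.1 hl, mem_normalizer_iff_cj.2 (by rw [cj_mul, k])⟩, ?_⟩
  rw [← mem_c1.1 hx.2, ← e]; group

theorem nc_elem (h4 : 4 ≤ Nat.card U) (nc : ¬ SylIn 2 (zpowers t ⊔ U) ⊤) : NC t L U := by
  obtain ⟨P, hP, p0, p1, x, x1, x2⟩ := h.exists_norm nc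
  obtain ⟨⟨w, w1, w2⟩, w3⟩ := ne_bot_iff_exists_ne_one.1 (inf_centralizer_ne_bot hP h.E_pgroup p1
    fun e => h.t1 (mem_bot.1 (e ▸ h.t_mem)))
  have w3 : w ≠ 1 := fun e => w3 (Subtype.ext e)
  have nw : ¬ IsConj t w := fun e => x2 (mem_c1.1 (h.E_le ((eq_of_le_of_card_ge p0 (h.card_le e hP
    fun p hp => mem_centralizer_singleton_iff.2 (w2 p hp))).ge x1)))
  have cx : IsConj t (x * t * x⁻¹) := isConj_iff.2 ⟨x, rfl⟩
  have k1 : ∀ a ∈ U, ∀ b ∈ U, b ≠ 1 → IsConj t a → IsConj t b := fun a ha b hb b1 e => by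
    obtain ⟨l, -, rfl⟩ := h.burn sq ha hb (by rintro rfl; exact h.t1 (isConj_one_left.1 e)) b1
    exact (isConj_cj l).2 e
  have k2 : ∀ a ∈ U, ∀ b ∈ U, a ≠ 1 → b ≠ 1 → IsConj t (t * a) → IsConj t (t * b) :=
    fun a ha b hb a1 b1 e => by
      obtain ⟨l, hl, rfl⟩ := h.burn sq ha hb a1 b1
      have := (isConj_cj l).2 e
      rwa [← conj_mul, h.comm hl.1, mul_inv_cancel_right] at this
  have x3 : t * (x * t * x⁻¹) ≠ 1 := fun e => x2 (by
    rw [← inv_eq_of_mul_eq_one_right e, inv_eq_of_mul_eq_one_right h.tt])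
  have tw : ∀ y : G, t * (t * y) = y := fun y => by rw [← mul_assoc, h.tt, one_mul]
  rcases h.mem_E.1 w1 with a | a <;> rcases h.mem_E.1 ((p1 x1 t).1 h.t_mem) with b | b
  · exact absurd (k1 _ b w a w3 cx) nw
  · exact h.nc_of (h.syl.le a) (orderOf_eq_two_of (sq w a) w3) nw
      (k2 _ b w a x3 w3 (by rwa [tw]))
  swap
  · refine absurd (tw w ▸ k2 _ b _ a x3 (fun e => nw ?_) (by rwa [tw])) nw
    rw [← tw w, e, mul_one]
  obtain ⟨n, n1, n2⟩ := h.fuse cx fun e he => mem_centralizer_singleton_iff.2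
    (comm_of_sq (fun _ => h.sq_E sq) he (mem_sup_right b))
  obtain ⟨u, hu, u1, u2, -⟩ := exists_third h4 (x * t * x⁻¹) 1
  have k3 : ∀ v ∈ U, v ≠ 1 → v ≠ x * t * x⁻¹ → n⁻¹ * v * n⁻¹⁻¹ ∈ U := fun v hv v1 v2 =>
    (h.mem_E.1 ((inv_mem n1 v).1 (mem_sup_right hv))).resolve_right fun c => by
      refine nw (tw w ▸ k2 _ c _ a (fun e => v2 ?_) (fun e => nw ?_) ?_)
      · rw [← n2, ← inv_eq_of_mul_eq_one_right h.tt, inv_eq_of_mul_eq_one_right e]; group
      · rw [← tw w, e, mul_one]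
      · rw [tw, isConj_cj]; exact k1 _ b v hv v1 cx
  have := mul_mem (k3 u hu u1 u2) (k3 _ (mul_mem hu b) (fun e => u2 (by
    rw [← inv_eq_of_mul_eq_one_right (sq u hu), inv_eq_of_mul_eq_one_right e])) (by simpa using u1))
  rw [conj_mul, ← mul_assoc u, sq u hu, one_mul, ← n2] at this
  exact absurd (h.syl.le (by simpa [mul_assoc] using this)) h.tL

end LD

/-- the elementary case -/
structure EL (t : G) (L U : Subgroup G) : Prop extends NC t L U where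
  sq : ∀ u ∈ U, u * u = 1
  four : 4 ≤ Nat.card U
  hG : ∀ H : Subgroup G, H.index ≠ 2
  ab : Nat.card U = 4 ∨ ∀ l ∈ L ⊓ normalizer (U : Set G), ∀ l' ∈ L ⊓ normalizer (U : Set G),
    ∀ u ∈ U, l * l' * u * (l * l')⁻¹ = l' * l * u * (l' * l)⁻¹

/-- a `2`-subgroup inverted by `t` whose normalizer covers the automizer of `U` in `C(t)` -/
structure Gd (t : G) (U A : Subgroup G) : Prop where
  pg : IsPGroup 2 A
  le : U ≤ A
  nt : t ∉ A
  inv : ∀ a ∈ A, t * a * t⁻¹ = a⁻¹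
  nu : ∀ c, c * t = t * c → c ∈ normalizer (U : Set G) → ∃ d, d * t = t * d ∧
    d ∈ normalizer (A : Set G) ∧ ∀ u ∈ U, d * u * d⁻¹ = c * u * c⁻¹

namespace Gd

variable {t : G} {U A : Subgroup G} (g : Gd t U A)
include g

theorem comm {a b : G} (ha : a ∈ A) (hb : b ∈ A) : a * b = b * a := by
  rw [← inv_inj, ← g.inv _ (mul_mem ha hb), ← conj_mul, g.inv a ha, g.inv b hb, mul_inv_rev]

theorem conj_t {a : G} (ha : a ∈ A) : a⁻¹ * t * a⁻¹⁻¹ = t * (a * a) := by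
  rw [inv_inv, ← g.inv a ha]; group

theorem tN [Finite G] : t ∈ normalizer (A : Set G) :=
  mem_normalizer_fintype fun a ha => by rw [g.inv a ha]; exact inv_mem ha

end Gd

namespace EL

variable {t : G} {L U A : Subgroup G} (h : EL t L U)
include h

theorem tt : t * t = 1 := h.toLD.tt

theorem tw (y : G) : t * (t * y) = y := by rw [← mul_assoc, h.tt, one_mul]

theorem ti : t⁻¹ = t := inv_eq_of_mul_eq_one_right h.tt

theorem gd_self : Gd t U U :=
  ⟨h.syl.pgroup, le_rfl, fun k => h.tL (h.syl.le k), fun u hu => by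
    rw [← h.commD hu, mul_inv_cancel_right, inv_eq_of_mul_eq_one_right (h.sq u hu)],
    fun c c1 c2 => ⟨c, c1, c2, fun _ _ => rfl⟩⟩

theorem not_mul {s u : G} (hs : IsConj t s) (hu : IsConj t u) : ¬ IsConj t (s * u) := fun e =>
  h.r1 hs hu (by
    rw [← inv_eq_of_mul_eq_one_right (IsConj.sq_one e h.tt), mul_inv_rev,
      inv_eq_of_mul_eq_one_right (IsConj.sq_one hs h.tt),
      inv_eq_of_mul_eq_one_right (IsConj.sq_one hu h.tt)]) e

variable [Finite G] (g : Gd t U A)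
include g

theorem mem_B {x : G} : x ∈ zpowers t ⊔ A ↔ x ∈ A ∨ t * x ∈ A := mem_sup_two h.tt g.tN

theorem B_pg : IsPGroup 2 ↥(zpowers t ⊔ A) :=
  (pgroup_two h.tt).to_sup_of_normal_right' g.pg (zpowers_le_of_mem g.tN)

omit h [Finite G] in
theorem E_B : zpowers t ⊔ U ≤ zpowers t ⊔ A := sup_le_sup_left g.le _

theorem om {a : G} (ha : a ∈ A) (e : a * a = 1) : a ∈ U :=
  (h.mem_E.1 (h.cap (h.B_pg g) (E_B g) (mem_sup_right ha) (by
    rw [eq_comm, ← mul_inv_eq_iff_eq_mul, g.inv a ha, inv_eq_of_mul_eq_one_right e]))).resolve_right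
    fun k => g.nt (by simpa using mul_mem (g.le k) (inv_mem ha))

theorem nA {a : G} (ha : a ∈ A) : ¬ IsConj t a := fun e =>
  h.nz a (h.syl.le (h.om g ha (IsConj.sq_one e h.tt))) e

omit [Finite G] in
theorem B_cU : zpowers t ⊔ A ≤ centralizer (U : Set G) :=
  sup_le (zpowers_le_of_mem fun _ hu => h.commD hu) fun _ ha _ hu => g.comm (g.le hu) ha

theorem mem_NB {d : G} (d1 : d * t = t * d) (d2 : d ∈ normalizer (A : Set G)) :
    d ∈ normalizer ((zpowers t ⊔ A : Subgroup G) : Set G) :=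
  mem_normalizer_fintype fun x hx => (h.mem_B g).2 (((h.mem_B g).1 hx).imp (d2 x).1 fun k => by
    have := (d2 _).1 k
    rwa [← conj_mul, d1, mul_inv_cancel_right] at this)

theorem exists_pi : ∃ e : ℕ, (∀ a ∈ A, a ^ e ∈ U) ∧ (∀ u ∈ U, ∃ a ∈ A, a ^ e = u) ∧
    ∀ a ∈ A, a ^ e = 1 ↔ ∃ b ∈ A, a = b * b := by
  classical
  have ex : ∃ k, ∀ a ∈ A, a ^ 2 ^ k = 1 := by
    obtain ⟨k, hk⟩ := g.pg.exists_card_eq
    exact ⟨k, fun a ha => by
      simpa [hk] using congrArg Subtype.val (pow_card_eq_one' (x := (⟨a, ha⟩ : A)))⟩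
  obtain ⟨u0, hu0, u1, -⟩ := exists_third h.four 1 1
  obtain ⟨k, hk⟩ : ∃ k, Nat.find ex = k + 1 := Nat.exists_eq_succ_of_ne_zero fun e => u1 (by
    simpa [e] using Nat.find_spec ex u0 (g.le hu0))
  have h1 := Nat.find_spec ex
  have h2 := Nat.find_min ex (m := k) (by omega)
  rw [hk] at h1
  push Not at h2
  obtain ⟨a0, ha0, a1⟩ := h2
  have p1 : ∀ a ∈ A, a ^ 2 ^ k ∈ U := fun a ha =>
    h.om g (pow_mem ha _) (by rw [← pow_add, ← two_mul, ← pow_succ', h1 a ha])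
  have p2 : ∀ u ∈ U, ∃ a ∈ A, a ^ 2 ^ k = u := fun u hu => by
    by_cases e : u = 1
    · exact ⟨1, one_mem _, by rw [e, one_pow]⟩
    obtain ⟨l, hl, rfl⟩ := h.burn h.sq (p1 a0 ha0) hu a1 e
    obtain ⟨d, -, d2, d3⟩ := g.nu l (h.comm hl.1) hl.2
    exact ⟨_, (d2 a0).1 ha0, by rw [conj_pow, d3 _ (p1 a0 ha0)]⟩
  refine ⟨2 ^ k, p1, p2, fun a ha => ⟨fun e => ?_, ?_⟩⟩
  · let _ : CommGroup A := { (inferInstance : Group A) with
      mul_comm := fun a b => Subtype.ext (g.comm a.2 b.2) }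
    have e1 : (powMonoidHom (2 ^ k) : A →* A).range = (powMonoidHom 2 : A →* A).ker := by
      ext ⟨x, hx⟩
      simp only [MonoidHom.mem_range, MonoidHom.mem_ker, powMonoidHom_apply, Subtype.ext_iff,
        SubmonoidClass.coe_pow, OneMemClass.coe_one, pow_two, MulMemClass.coe_mul]
      exact ⟨fun ⟨b, hb⟩ => h.sq x (hb ▸ p1 b b.2), fun e =>
        let ⟨b, hb, c⟩ := p2 x (h.om g hx e); ⟨⟨b, hb⟩, c⟩⟩
    have c1 := (powMonoidHom (2 ^ k) : A →* A).ker.index_mul_card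
    have c2 := (powMonoidHom 2 : A →* A).ker.index_mul_card
    rw [index_ker] at c1 c2
    rw [e1, ← c2, mul_comm] at c1
    have e2 : (powMonoidHom 2 : A →* A).range = (powMonoidHom (2 ^ k) : A →* A).ker :=
      eq_of_le_of_card_ge (by
        rintro _ ⟨b, rfl⟩
        exact Subtype.ext (by simpa [← pow_mul, ← pow_succ'] using h1 b b.2))
        (Nat.eq_of_mul_eq_mul_right Nat.card_pos c1).le
    obtain ⟨b, hb⟩ := e2.ge (show (⟨a, ha⟩ : A) ∈ _ from Subtype.ext e)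
    exact ⟨b, b.2, by simpa [pow_two] using (congrArg Subtype.val hb).symm⟩
  · rintro ⟨b, hb, rfl⟩
    rw [← pow_two, ← pow_mul, ← pow_succ', h1 b hb]

omit g in
theorem endA {R N : Subgroup G} (hR : IsPGroup 2 R) (hE : zpowers t ⊔ U ≤ R) (hA : A ≤ N) (tN : t ∉ N)
    (hc : ∀ a ∈ R, ∀ b ∈ R, a * b * a⁻¹ * b⁻¹ ∈ N) (hT : ∀ s ∈ R, IsConj t s → t * s ∈ A)
    (hf : ∀ n ∈ normalizer (R : Set G), ∃ r ∈ R, r * t * r⁻¹ = n * t * n⁻¹) : False := by
  obtain ⟨x, x1, x2⟩ := tr h.hG (h.fin hR hE hf) hc (hE h.t_mem) tN h.tt fun x hx =>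
    Or.inr (hA (hT _ hx (isConj_iff.2 ⟨x, rfl⟩)))
  exact tN (by
    simpa [mul_assoc] using mul_mem (hA (hT _ (x2 t (hE h.t_mem) rfl) (isConj_iff.2 ⟨x, rfl⟩))) (inv_mem x1))

theorem T_B {s : G} (hs : s ∈ zpowers t ⊔ A) (e : IsConj t s) : t * s ∈ A :=
  ((h.mem_B g).1 hs).resolve_left fun k => h.nA g k e

theorem aM {m : G} (hm : m ∈ normalizer ((zpowers t ⊔ A : Subgroup G) : Set G)) :
    t * (m * t * m⁻¹) ∈ A :=
  h.T_B g ((hm t).1 (mem_sup_left (mem_zpowers t))) (isConj_iff.2 ⟨m, rfl⟩)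

/-- one element moving `t` out of `t A²` gives transitivity on `t A` -/
theorem trans_of {H : Subgroup G} (hB : A ≤ H)
    (hH : ∀ d, d * t = t * d → d ∈ normalizer (A : Set G) → ∀ m ∈ H, ∃ m' ∈ H,
      m' * t * m'⁻¹ = d * (m * t * m⁻¹) * d⁻¹) {m : G} (hm : m ∈ H) (m1 : t * (m * t * m⁻¹) ∈ A)
    (m2 : ∀ b ∈ A, t * (m * t * m⁻¹) ≠ b * b) {a : G} (ha : a ∈ A) :
    ∃ x ∈ H, x * t * x⁻¹ = t * a := by
  obtain ⟨e, p1, -, p3⟩ := h.exists_pi g
  by_cases c : a ^ e = 1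
  · obtain ⟨b, hb, rfl⟩ := (p3 a ha).1 c
    exact ⟨b⁻¹, inv_mem (hB hb), g.conj_t hb⟩
  obtain ⟨l, hl, k⟩ := h.burn h.sq (p1 _ m1) (p1 a ha)
    (fun k => let ⟨b, hb, k⟩ := (p3 _ m1).1 k; m2 b hb k) c
  obtain ⟨d, d1, d2, d3⟩ := g.nu l (h.comm hl.1) hl.2
  obtain ⟨x, hx, k2⟩ := hH d d1 d2 m hm
  have d4 := (d2 _).1 m1
  rw [← d3 _ (p1 _ m1), ← conj_pow] at k
  rw [← conj_mul, d1, mul_inv_cancel_right, ← k2] at d4 k
  obtain ⟨b, hb, k3⟩ := (p3 _ (mul_mem (inv_mem d4) ha)).1 (by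
    rw [(show Commute _ a from g.comm (inv_mem d4) ha).mul_pow, inv_pow, k, inv_mul_cancel])
  refine ⟨b⁻¹ * x, mul_mem (inv_mem (hB hb)) hx, ?_⟩
  rw [show b⁻¹ * x * t * (b⁻¹ * x)⁻¹ = b⁻¹ * (x * t * x⁻¹) * b by group, ← h.tw (x * t * x⁻¹),
    eq_mul_of_inv_mul_eq k3, ← mul_assoc b⁻¹, ← g.inv b hb, inv_mul_cancel_right, mul_assoc t,
    mul_assoc t, g.comm hb d4, mul_assoc]

theorem beta {a : G} (ha : a ∈ A) :
    ∃ m ∈ normalizer ((zpowers t ⊔ A : Subgroup G) : Set G), m * t * m⁻¹ = t * a := by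
  by_cases c : ∀ m ∈ normalizer ((zpowers t ⊔ A : Subgroup G) : Set G), ∃ b ∈ A,
    t * (m * t * m⁻¹) = b * b
  · refine (h.endA (h.B_pg g) (E_B g) le_rfl g.nt (fun a ha b hb => ?_) (fun s => h.T_B g)
      fun n hn => ?_).elim
    · have hn : zpowers t ⊔ A ≤ normalizer (A : Set G) := sup_le (zpowers_le_of_mem g.tN) le_normalizer
      rcases (h.mem_B g).1 ha with k | k
      · simpa [mul_assoc] using mul_mem k ((hn hb _).1 (inv_mem k))
      rcases (h.mem_B g).1 hb with l | l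
      · exact mul_mem ((hn ha _).1 l) (inv_mem l)
      · have := mul_mem (inv_mem k) l
        simpa [mul_assoc] using (hn ha _).1 (mul_mem ((hn ha _).1 this) (inv_mem this))
    · obtain ⟨b, hb, e⟩ := c n hn
      exact ⟨b⁻¹, mem_sup_right (inv_mem hb), by rw [g.conj_t hb, ← e, h.tw]⟩
  push Not at c
  obtain ⟨m, hm, c⟩ := c
  exact h.trans_of g (le_sup_right.trans le_normalizer)
    (fun d d1 d2 m hm => ⟨d * m, mul_mem (h.mem_NB g d1 d2) hm, by group⟩) hm (h.aM g hm) c ha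

theorem tA {a : G} (ha : a ∈ A) : IsConj t (t * a) :=
  let ⟨m, _, e⟩ := h.beta g ha; isConj_iff.2 ⟨m, e⟩

theorem M_A {m : G} (hm : m ∈ normalizer ((zpowers t ⊔ A : Subgroup G) : Set G)) :
    m ∈ normalizer (A : Set G) :=
  mem_normalizer_fintype fun a ha => ((h.mem_B g).1 ((hm a).1 (mem_sup_right ha))).resolve_right
    fun k => h.nA g ha ((isConj_cj m).1 (h.tw (m * a * m⁻¹) ▸ h.tA g k))

theorem A_U {m : G} (hm : m ∈ normalizer (A : Set G)) : m ∈ normalizer (U : Set G) :=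
  mem_normalizer_fintype fun u hu => h.om g ((hm u).1 (g.le hu)) (conj_sq (h.sq u hu) m)

theorem orb_R {R H : Subgroup G} (hR : SylIn 2 R H)
    (hH : H ≤ normalizer ((zpowers t ⊔ A : Subgroup G) : Set G))
    (tr : ∀ a ∈ A, ∃ x ∈ H, x * t * x⁻¹ = t * a) :
    {y | ∃ x ∈ R, x * t * x⁻¹ = y} = {y | t⁻¹ * y ∈ A} := by
  have e : {y | ∃ x ∈ H, x * t * x⁻¹ = y} = {y | t⁻¹ * y ∈ A} := by
    rw [h.ti]
    exact Set.ext fun y => ⟨by rintro ⟨x, hx, rfl⟩; exact h.aM g (hH hx), fun k => h.tw y ▸ tr _ k⟩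
  obtain ⟨k, hk⟩ := g.pg.exists_card_eq
  rw [orb_syl hR (by rw [e, ncard_coset, hk]), e]

theorem card_R {R : Subgroup G} (hR : IsPGroup 2 R) (hB : zpowers t ⊔ A ≤ R)
    (e : {y | ∃ x ∈ R, x * t * x⁻¹ = y} = {y | t⁻¹ * y ∈ A}) {s : G} (hs : IsConj t s) :
    Nat.card A ≤ {y | ∃ x ∈ R, x * s * x⁻¹ = y}.ncard := by
  have c1 := card_eq_orb R t
  have c2 := card_eq_orb R s
  rw [e, ncard_coset, c2] at c1
  have c3 := h.card_le hs (hR.to_le inf_le_right) (inf_le_left (a := centralizer {s}))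
  have c4 := card_le_of_le (le_inf h.E_le ((E_B g).trans hB))
  exact Nat.le_of_mul_le_mul_right (c1.ge.trans (Nat.mul_le_mul_left _ (c3.trans c4))) Nat.card_pos

omit [Finite G] in
/-- an element whose cocycle value is a square -/
theorem sq_mem {R : Subgroup G} (hR : IsPGroup 2 R) (hB : zpowers t ⊔ A ≤ R) {r b : G} (hr : r ∈ R)
    (hb : b ∈ A) (e : t * (r * t * r⁻¹) = b * b) : r ∈ zpowers t ⊔ A := by
  have := E_B g (h.cap hR ((E_B g).trans hB) (mul_mem (hB (mem_sup_right hb)) hr) (by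
    rw [← mul_inv_eq_iff_eq_mul, show b * r * t * (b * r)⁻¹ = b * (r * t * r⁻¹) * b⁻¹ by group,
      ← h.tw (r * t * r⁻¹), e, ← g.conj_t hb]; group))
  simpa using mul_mem (inv_mem (mem_sup_right hb : b ∈ zpowers t ⊔ A)) this

end EL

end CL.ZP
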