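import Mathlib
import Cfsg.Agent.INV.ZP.ElemA

/-!
The elementary case: some element centralizing `U` moves `t` out of `t A²`.
-/

set_option autoImplicit false

namespace CL.ZP

open Subgroup Cfsg CL.MSS CL.Len CL.TwoInv

variable {G : Type*} [Group G]

theorem conj_cen {U : Subgroup G} {d m : G} (hd : d ∈ normalizer (U : Set G))
    (hm : m ∈ centralizer (U : Set G)) : d * m * d⁻¹ ∈ centralizer (U : Set G) := fun u hu => by
  rw [show u = d * (d⁻¹ * u * d⁻¹⁻¹) * d⁻¹ by group, conj_mul, conj_mul, hm _ ((inv_mem hd u).1 hu)]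

namespace EL

variable {t : G} {L U A : Subgroup G} (h : EL t L U) [Finite G] (g : Gd t U A)
include h g

theorem coc {e : ℕ} {r s : G} (hr : r ∈ normalizer ((zpowers t ⊔ A : Subgroup G) : Set G))
    (hs : s ∈ normalizer ((zpowers t ⊔ A : Subgroup G) : Set G)) :
    (t * (r * s * t * (r * s)⁻¹)) ^ e = (t * (r * t * r⁻¹)) ^ e * (r * (t * (s * t * s⁻¹)) ^ e * r⁻¹) := by
  rw [← conj_pow, ← (show Commute _ _ from g.comm (h.aM g hr) ((h.M_A g hr _).1 (h.aM g hs))).mul_pow,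
    show t * (r * t * r⁻¹) * (r * (t * (s * t * s⁻¹)) * r⁻¹) =
      t * (r * (t * (t * (s * t * s⁻¹))) * r⁻¹) by group, h.tw]
  congr 1
  group

theorem transl (hmax : ∀ X, Gd t U X → A ≤ X → X ≤ A) {m : G}
    (hm : m ∈ normalizer ((zpowers t ⊔ A : Subgroup G) : Set G) ⊓ centralizer (U : Set G))
    (m2 : ∀ b ∈ A, t * (m * t * m⁻¹) ≠ b * b) : False := by
  have B0 := le_inf le_normalizer (h.B_cU g)
  have cj : ∀ d, d * t = t * d → d ∈ normalizer (A : Set G) →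
      ∀ m ∈ normalizer ((zpowers t ⊔ A : Subgroup G) : Set G) ⊓ centralizer (U : Set G),
      d * m * d⁻¹ ∈ normalizer ((zpowers t ⊔ A : Subgroup G) : Set G) ⊓ centralizer (U : Set G) :=
    fun d d1 d2 m hm => ⟨mul_mem (mul_mem (h.mem_NB g d1 d2) hm.1)
      (Subgroup.inv_mem _ (h.mem_NB g d1 d2)),
      conj_cen (h.A_U g d2) hm.2⟩
  obtain ⟨R, hR, hB⟩ := exists_sylIn_ge (h.B_pg g) B0
  have orb := h.orb_R g hR inf_le_left fun a ha => h.trans_of g (le_sup_right.trans B0)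
    (fun d d1 d2 m hm => ⟨_, cj d d1 d2 m hm, by
      rw [show d * m * d⁻¹ * t * (d * m * d⁻¹)⁻¹ = d * (m * (d⁻¹ * (t * d)) * m⁻¹) * d⁻¹ by group, ← d1,
        inv_mul_cancel_left]⟩) hm (h.aM g hm.1) m2 ha
  have tR : t ∈ R := hB (mem_sup_left (mem_zpowers t))
  obtain ⟨e, p1, -, p3⟩ := h.exists_pi g
  have RM : ∀ r ∈ R, r ∈ normalizer ((zpowers t ⊔ A : Subgroup G) : Set G) := fun r hr => (hR.le hr).1
  have ker : ∀ r ∈ R, (t * (r * t * r⁻¹)) ^ e = 1 → r ∈ zpowers t ⊔ A := fun r hr c =>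
    let ⟨b, hb, k⟩ := (p3 _ (h.aM g (RM r hr))).1 c; h.sq_mem g hR.pgroup hB hr hb k
  have mul : ∀ r ∈ R, ∀ s ∈ R, (t * (r * t * r⁻¹)) ^ e = (t * (s * t * s⁻¹)) ^ e →
      r * s ∈ zpowers t ⊔ A := fun r hr s hs c => ker _ (mul_mem hr hs) (by
    have := p1 _ (h.aM g (RM s hs))
    rw [h.coc g (RM r hr) (RM s hs), c, ← (hR.le hr).2 _ this, mul_inv_cancel_right, h.sq _ this])
  have sq : ∀ r ∈ R, r * r ∈ A := fun r hr => ((h.mem_B g).1 (mul r hr r hr rfl)).resolve_right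
    fun k => h.not_sq (hR.pgroup.to_le (zpowers_le_of_mem hr)) (h.tw (r * r) ▸ h.tA g k)
  have hc : ∀ a ∈ R, ∀ b ∈ R, a * b * a⁻¹ * b⁻¹ ∈ A := fun a ha b hb => by
    simpa [mul_assoc] using mul_mem (mul_mem (sq _ (mul_mem ha hb))
      ((inv_mem (h.M_A g (RM b hb)) _).1 (inv_mem (sq a ha)))) (inv_mem (sq b hb))
  by_cases hT : ∀ s ∈ R, IsConj t s → t * s ∈ A
  · exact h.endA hR.pgroup ((E_B g).trans hB) le_rfl g.nt hc hT fun n hn =>
      orb.ge (show t⁻¹ * _ ∈ A from h.ti.symm ▸ hT _ ((hn t).1 tR) (isConj_iff.2 ⟨n, rfl⟩))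
  push Not at hT
  obtain ⟨s0, s1, s2, s3⟩ := hT
  have cos : ∀ s ∈ R, IsConj t s → ∀ a ∈ A, IsConj t (s * a) := fun s hs c a ha => by
    obtain ⟨x, -, k⟩ := (Set.eq_of_subset_of_ncard_le (s := {y | ∃ x ∈ R, x * s * x⁻¹ = y})
      (t := {y | s⁻¹ * y ∈ A}) (by
        rintro _ ⟨x, hx, rfl⟩
        simpa [mul_assoc] using hc _ (inv_mem hs) x hx)
      (ncard_coset A s ▸ h.card_R g hR.pgroup hB orb c)).ge (show s⁻¹ * (s * a) ∈ A by simpa using ha)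
    exact k ▸ (isConj_cj x).2 c
  have nu : ∀ c, c * t = t * c → c ∈ normalizer (U : Set G) → ∃ d, d * t = t * d ∧
      d ∈ normalizer (R : Set G) ∧ ∀ u ∈ U, d * u * d⁻¹ = c * u * c⁻¹ := fun c c1 c2 => by
    obtain ⟨d, d1, d2, d3⟩ := g.nu c c1 c2
    obtain ⟨m, hm, y, hy, rfl⟩ := hR.frattini (mem_normalizer_fintype (cj d d1 d2))
    obtain ⟨r, hr, k⟩ := orb.ge (show t⁻¹ * (m⁻¹ * t * m⁻¹⁻¹) ∈ A from h.ti.symm ▸ h.aM g (inv_mem hm.1))
    refine ⟨r⁻¹ * y, ?_, mul_mem (inv_mem (le_normalizer hr)) hy, fun u hu => ?_⟩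
    · rw [← mul_inv_eq_iff_eq_mul, show r⁻¹ * y * t * (r⁻¹ * y)⁻¹ =
        r⁻¹ * (m⁻¹ * (m * y * t * (m * y)⁻¹) * m⁻¹⁻¹) * r by group, d1, mul_inv_cancel_right, ← k]
      group
    · have := (c2 u).1 hu
      rw [show r⁻¹ * y * u * (r⁻¹ * y)⁻¹ = (m * r)⁻¹ * ((m * y * u * (m * y)⁻¹) * (m * r)) by group,
        d3 u hu, (mul_mem hm (hR.le hr)).2 _ this, inv_mul_cancel_left]
  have dich : ∀ r ∈ R, ¬ IsConj t r → IsConj t (r * t) := fun r hr nr => by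
    by_cases c : (t * (r * t * r⁻¹)) ^ e = 1
    · have k := ((h.mem_B g).1 (ker r hr c)).resolve_right fun k => nr (h.tw r ▸ h.tA g k)
      have := h.tA g (inv_mem k)
      rwa [← mul_inv_eq_iff_eq_mul.1 (g.inv _ (inv_mem k)) |>.symm, inv_inv] at this
    obtain ⟨l, hl, k⟩ := h.burn h.sq (p1 _ (h.aM g (RM _ s1))) (p1 _ (h.aM g (RM r hr)))
      (fun k => s3 (h.T_B g (ker _ s1 k) s2)) c
    obtain ⟨d, d1, d2, d3⟩ := nu l (h.comm hl.1) hl.2
    have s4 := (d2 _).1 s1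
    have s5 := (isConj_cj d).2 s2
    have := mul _ s4 r hr (by
      rw [← k, ← d3 _ (p1 _ (h.aM g (RM _ s1))), ← conj_pow,
        show d * (t * (s0 * t * s0⁻¹)) * d⁻¹ = d * t * d⁻¹ * (d * s0 * d⁻¹ * (d * t * d⁻¹) *
          (d * s0 * d⁻¹)⁻¹) by group, d1, mul_inv_cancel_right])
    have ss := IsConj.sq_one s5 h.tt
    generalize d * s0 * d⁻¹ = s at s4 s5 this ss
    rcases (h.mem_B g).1 this with k | k
    · have := cos s s4 s5 _ k
      rw [← mul_assoc, ss, one_mul] at this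
      exact absurd this nr
    · have := cos s s4 s5 _ ((inv_mem g.tN _).1 k)
      rwa [inv_inv, ← mul_assoc t⁻¹, inv_mul_cancel, one_mul, ← mul_assoc, ← mul_assoc, ss,
        one_mul] at this
  let X : Subgroup G :=
    { carrier := {x | x ∈ R ∧ ¬ IsConj t x}
      one_mem' := ⟨one_mem R, fun c => h.t1 (isConj_one_left.1 c)⟩
      mul_mem' := fun {x y} hx hy => ⟨mul_mem hx.1 hy.1, by
        have := h.not_mul (dich x hx.1 hx.2) ((isConj_cj t).2 (dich y hy.1 hy.2))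
        rwa [← mul_assoc t, mul_inv_cancel_right, mul_assoc, h.tw] at this⟩
      inv_mem' := fun {x} hx => ⟨inv_mem hx.1, fun c => hx.2 (by
        rwa [← inv_eq_of_mul_eq_one_right (IsConj.sq_one c h.tt), inv_inv] at c)⟩ }
  have := hmax X ⟨hR.pgroup.to_le fun _ hx => hx.1, fun u hu => ⟨hB (mem_sup_right (g.le hu)),
    h.nA g (g.le hu)⟩, fun k => k.2 (IsConj.refl t), fun x hx => ?_, fun c c1 c2 => ?_⟩
    (fun a ha => ⟨hB (mem_sup_right ha), h.nA g ha⟩)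
    (show s0 * t ∈ X from ⟨mul_mem s1 tR, h.not_mul s2 (IsConj.refl t)⟩)
  · exact s3 (by simpa [mul_assoc] using (g.tN _).1 this)
  · rw [h.ti, eq_inv_iff_mul_eq_one, ← conj_sq (IsConj.sq_one (dich x hx.1 hx.2) h.tt) t]
    group
  · obtain ⟨d, d1, d2, d3⟩ := nu c c1 c2
    exact ⟨d, d1, mem_normalizer_fintype fun x hx => ⟨(d2 x).1 hx.1, mt (isConj_cj d).1 hx.2⟩, d3⟩

end EL

end CL.ZP
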